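import Groth.Agent.FormalFibre.Completion
import Groth.Agent.NormalTensor.Criterion
import Groth.Agent.FlatAscent.Descent
import Groth.Agent.CohenStruct.N2
import Mathlib

/-!
# Normality of completions descends along injective finite maps with normal source
-/

set_option autoImplicit false
set_option backward.isDefEq.respectTransparency false
universe u

open TensorProduct IsLocalRing

namespace Groth.Agent.FiniteNormalCompletion

open Polynomial in
/-- In a normal ring, if `b / y` is formally integral then `y` divides `b`. -/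
theorem mem_span_of_scaleRoots {D R : Type u} [CommRing D] [CommRing R] (hR : EGA4.IsNormalRing R)
    (f : D →+* R) {p : D[X]} (hp : p.Monic) {b y : D}
    (h : (p.scaleRoots y).eval₂ f (f b) = 0) : f b ∈ Ideal.span {f y} := by
  refine Ideal.mem_of_localization_maximal fun M hM => ?_
  obtain ⟨_, _⟩ := hR M
  let L := Localization.AtPrime M
  let g : D →+* L := (algebraMap R L).comp f
  rw [Ideal.map_span, Set.image_singleton]
  change g b ∈ Ideal.span {g y}
  have hg : (p.scaleRoots y).eval₂ g (g b) = 0 := by
    change (p.scaleRoots y).eval₂ ((algebraMap R L).comp f) (algebraMap R L (f b)) = 0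
    rw [← Polynomial.hom_eval₂, h, map_zero]
  have hlead : g p.leadingCoeff ≠ 0 := by rw [hp.leadingCoeff, map_one]; exact one_ne_zero
  by_cases hy : g y = 0
  · rw [Polynomial.eval₂_eq_eval_map, Polynomial.map_scaleRoots p y g hlead, hy,
      Polynomial.scaleRoots_zero, (hp.map g).leadingCoeff, one_smul, Polynomial.eval_pow,
      Polynomial.eval_X] at hg
    rw [eq_zero_of_pow_eq_zero hg]
    exact zero_mem _
  · let K := FractionRing L
    let h' : D →+* K := (algebraMap L K).comp g
    have hinj := IsFractionRing.injective L K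
    have hyK : h' y ≠ 0 := fun h0 => hy (hinj (h0.trans (map_zero _).symm))
    have hr : Polynomial.eval₂ h' (h' b / h' y) p = 0 := by
      have h1 := Polynomial.scaleRoots_eval₂_mul (p := p) h' (h' b / h' y) y
      rw [mul_div_cancel₀ _ hyK] at h1
      have h2 : (p.scaleRoots y).eval₂ h' (h' b) = 0 := by
        change (p.scaleRoots y).eval₂ ((algebraMap L K).comp g) (algebraMap L K (g b)) = 0
        rw [← Polynomial.hom_eval₂, hg, map_zero]
      rw [h2] at h1
      exact (mul_eq_zero.1 h1.symm).resolve_left (pow_ne_zero _ hyK)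
    have hint : IsIntegral L (h' b / h' y) :=
      ⟨p.map g, hp.map g, by rw [Polynomial.eval₂_map]; exact hr⟩
    obtain ⟨z, hz⟩ := IsIntegrallyClosed.isIntegral_iff.1 hint
    refine Ideal.mem_span_singleton'.2 ⟨z, hinj ?_⟩
    rw [map_mul, hz]
    exact div_mul_cancel₀ _ hyK

section tensor

variable (B C : Type u) [CommRing B] [CommRing C] [Algebra B C]
variable (D : Type u) [CommRing D] [Algebra B D]

/-- If `B → C` is an injective map of Noetherian rings with `B` normal and `D` is a flat `B`-algebra,
then a fraction of `D` which lies in `C ⊗ D` lies in `D`. -/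
theorem exists_mul_eq_of_mul_eq [IsNoetherianRing B] [Algebra.IsIntegral B C] [Module.Flat B D]
    (hinj : Function.Injective (algebraMap B C)) (hB : EGA4.IsNormalRing B) {b y : D}
    (hy : y ∈ nonZeroDivisors D) {x : C ⊗[B] D}
    (hx : x * (1 : C) ⊗ₜ[B] y = (1 : C) ⊗ₜ[B] b) : ∃ z : D, z * y = b := by
  have hred : IsReduced B := NormalTensor.isReduced_of_isNormalRing hB
  let Q := FractionRing B
  haveI : IsArtinianRing Q := NormalTensor.isArtinianRing_fractionRing B
  haveI : IsReduced Q := isReduced_localizationPreserves (nonZeroDivisors B) Q hred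
  haveI : IsSemisimpleRing Q := IsArtinianRing.isSemisimpleRing_of_isReduced Q
  let ι : C →ₗ[B] Q ⊗[B] C := TensorProduct.mk B Q C 1
  let L : Submodule Q (Q ⊗[B] C) := Submodule.span Q {ι 1}
  let N := (Q ⊗[B] C) ⧸ L
  haveI : Module.Projective Q N := Module.projective_of_isSemisimpleRing Q N
  haveI : Module.Flat B Q := IsLocalization.flat Q (nonZeroDivisors B)
  haveI : Module.Flat B N := Module.Flat.trans B Q N
  let θ : C →ₗ[B] N := (L.mkQ.restrictScalars B).comp ι
  let T : Submodule B C := LinearMap.ker ι
  let φ : B × T →ₗ[B] C := (Algebra.linearMap B C).coprod T.subtype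
  have hloc : IsLocalizedModule (nonZeroDivisors B) ι :=
    inferInstanceAs (IsLocalizedModule (nonZeroDivisors B) (TensorProduct.mk B Q C 1))
  have hφ : Function.Injective φ := by
    refine (injective_iff_map_eq_zero φ).2 fun ⟨r, t, ht⟩ h => ?_
    have h' : algebraMap B C r + t = 0 := h
    have h0 : ι (algebraMap B C r) = ι 0 := by
      rw [eq_neg_of_add_eq_zero_left h', map_neg, (show ι t = 0 from ht), neg_zero, map_zero]
    obtain ⟨s, hs⟩ := (IsLocalizedModule.eq_iff_exists (nonZeroDivisors B) ι).1 h0
    rw [smul_zero, Submonoid.smul_def, Algebra.smul_def, ← map_mul] at hs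
    have hr : r = 0 := (mul_left_mem_nonZeroDivisors_eq_zero_iff s.2).1
      (hinj (hs.trans (map_zero _).symm))
    subst hr
    rw [map_zero, zero_add] at h'
    exact Prod.ext rfl (Subtype.ext h')
  have hθ1 : θ 1 = 0 := (Submodule.Quotient.mk_eq_zero L).2 (Submodule.mem_span_singleton_self _)
  have hexact : Function.Exact φ θ := by
    intro c
    constructor
    · intro hc
      obtain ⟨q, hq⟩ := Submodule.mem_span_singleton.1 ((Submodule.Quotient.mk_eq_zero L).1 hc)
      obtain ⟨r, s, hrs⟩ := IsLocalization.exists_mk'_eq (nonZeroDivisors B) q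
      -- clear denominators
      have h1 : ι (algebraMap B C r) = ι (algebraMap B C s * c) := by
        rw [← Algebra.smul_def, Algebra.algebraMap_eq_smul_one, map_smul, map_smul,
          ← algebraMap_smul Q r, ← algebraMap_smul Q (s : B) (ι c), ← hq, ← mul_smul, ← hrs,
          IsLocalization.mk'_spec']
      obtain ⟨w, hw⟩ := (IsLocalizedModule.eq_iff_exists (nonZeroDivisors B) ι).1 h1
      rw [Submonoid.smul_def, Submonoid.smul_def, Algebra.smul_def, Algebra.smul_def, ← map_mul,
        ← mul_assoc, ← map_mul] at hw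
      -- `c` is integral over `B`
      have hint : IsIntegral B q := by
        refine (isIntegral_algHom_iff (Algebra.TensorProduct.includeLeft : Q →ₐ[B] Q ⊗[B] C)
          (Algebra.TensorProduct.includeLeft_injective (S := B) hinj)).1 ?_
        have h2 : (Algebra.TensorProduct.includeLeft : Q →ₐ[B] Q ⊗[B] C) q =
            (Algebra.TensorProduct.includeRight : C →ₐ[B] Q ⊗[B] C) c := by
          rw [Algebra.TensorProduct.includeLeft_apply, Algebra.TensorProduct.includeRight_apply]
          change q ⊗ₜ[B] (1 : C) = ι c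
          rw [← hq]
          change _ = q • ((1 : Q) ⊗ₜ[B] (1 : C))
          rw [TensorProduct.smul_tmul', smul_eq_mul, mul_one]
        rw [h2]
        exact (Algebra.IsIntegral.isIntegral c).map _
      obtain ⟨r₀, hr₀⟩ : ∃ r₀, algebraMap B Q r₀ = q := by
        obtain ⟨p, hp, hpq⟩ := hint
        have h2 : (p.scaleRoots (s : B)).eval₂ (RingHom.id B) r = 0 := by
          refine IsFractionRing.injective B Q ?_
          rw [Polynomial.hom_eval₂, RingHom.comp_id, map_zero]
          have := Polynomial.scaleRoots_eval₂_eq_zero (p := p) (algebraMap B Q) (s := (s : B)) hpq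
          rwa [← hrs, IsLocalization.mk'_spec'] at this
        obtain ⟨z, hz⟩ := Ideal.mem_span_singleton'.1 (mem_span_of_scaleRoots hB (RingHom.id B) hp h2)
        refine ⟨z, ?_⟩
        rw [← hrs, IsLocalization.eq_mk'_iff_mul_eq, ← map_mul]
        exact congrArg _ hz
      refine ⟨(r₀, ⟨c - algebraMap B C r₀, LinearMap.mem_ker.2 ?_⟩), by simp [φ]⟩
      rw [map_sub, sub_eq_zero, ← hq, ← hr₀, algebraMap_smul, Algebra.algebraMap_eq_smul_one, map_smul]
    · rintro ⟨⟨r, t, ht⟩, rfl⟩
      change θ (algebraMap B C r + t) = 0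
      rw [map_add, Algebra.algebraMap_eq_smul_one, map_smul, hθ1, smul_zero, zero_add]
      exact (Submodule.Quotient.mk_eq_zero L).2 ((show ι t = 0 from ht) ▸ zero_mem L)
  have hmul : ∀ {X Y : Type u} [AddCommGroup X] [Module B X] [AddCommGroup Y] [Module B Y]
      (f : X →ₗ[B] Y) (w : X ⊗[B] D),
      f.rTensor D ((LinearMap.mulRight B y).lTensor X w) =
        (LinearMap.mulRight B y).lTensor Y (f.rTensor D w) := fun {X Y} _ _ _ _ f w => by
    rw [← LinearMap.comp_apply, ← LinearMap.comp_apply, LinearMap.rTensor_comp_lTensor,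
      LinearMap.lTensor_comp_rTensor]
  have hright : ∀ z : C ⊗[B] D, z * (1 : C) ⊗ₜ[B] y = (LinearMap.mulRight B y).lTensor C z := fun z => by
    induction z using TensorProduct.induction_on with
    | zero => simp
    | tmul c d => simp
    | add a a' ha ha' => rw [add_mul, ha, ha', map_add]
  rw [hright] at hx
  have hyinj : Function.Injective (LinearMap.mulRight B y : D →ₗ[B] D) := fun a a' h =>
    (mul_cancel_right_mem_nonZeroDivisors hy).1 h
  have hx0 : θ.rTensor D x = 0 := by
    refine Module.Flat.lTensor_preserves_injective_linearMap (M := N) _ hyinj ?_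
    rw [map_zero, ← hmul, hx, LinearMap.rTensor_tmul, hθ1, TensorProduct.zero_tmul]
  obtain ⟨w, rfl⟩ := (Module.Flat.rTensor_exact D hexact x).1 hx0
  have hw : (LinearMap.mulRight B y).lTensor (B × T) w = ((1 : B), (0 : T)) ⊗ₜ[B] b := by
    refine Module.Flat.rTensor_preserves_injective_linearMap (M := D) φ hφ ?_
    rw [hmul, hx, LinearMap.rTensor_tmul]
    simp [φ]
  let π : (B × T) ⊗[B] D →ₗ[B] D :=
    (TensorProduct.lid B D).toLinearMap.comp ((LinearMap.fst B B T).rTensor D)
  refine ⟨π w, ?_⟩
  have hπ : π ((LinearMap.mulRight B y).lTensor (B × T) w) = π w * y := by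
    simp only [π, LinearMap.comp_apply, LinearEquiv.coe_coe]
    rw [hmul]
    generalize (LinearMap.fst B B T).rTensor D w = v
    induction v using TensorProduct.induction_on with
    | zero => simp
    | tmul c d => simp [Algebra.smul_mul_assoc]
    | add a a' ha ha' => simp only [map_add, ha, ha', add_mul]
  rw [← hπ, hw]
  simp [π]

end tensor

end Groth.Agent.FiniteNormalCompletion
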