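import Groth.Agent.FormalFibre.Completion
import Mathlib

/-!
# `C ⊗ Â` is the `m C`-adic completion of a finite algebra `C`
-/

set_option autoImplicit false
universe u

open TensorProduct IsLocalRing

namespace Groth.Agent.FiniteNormalCompletion

variable (A C : Type u) [CommRing A] [IsLocalRing A] [CommRing C] [Algebra A C]

local notation "m" => maximalIdeal A
local notation "Ah" => AdicCompletion (maximalIdeal A) A
local notation "K" => Ideal.map (algebraMap A C) (maximalIdeal A)

theorem lvl_eq (n : ℕ) : FormalFibre.lvl A C n = K ^ n := Ideal.map_pow _ _ _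

/-- The level `n` map to `C / (mC)^n`. -/
noncomputable def mapLevel (n : ℕ) : C ⊗[A] Ah →+* C ⧸ K ^ n :=
  (Ideal.Quotient.factor (lvl_eq A C n).le).comp (FormalFibre.evalLevel A C n).toRingHom

theorem mapLevel_eq (n : ℕ) (x : C ⊗[A] Ah) (c : C)
    (h : FormalFibre.evalLevel A C n x = Ideal.Quotient.mk _ c) :
    mapLevel A C n x = Ideal.Quotient.mk _ c := by
  rw [mapLevel, RingHom.comp_apply]
  change Ideal.Quotient.factor _ (FormalFibre.evalLevel A C n x) = _
  rw [h, Ideal.Quotient.factor_mk]

theorem mapLevel_compat {k n : ℕ} (hkn : k ≤ n) :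
    (Ideal.Quotient.factorPow K hkn).comp (mapLevel A C n) = mapLevel A C k := RingHom.ext fun x => by
  obtain ⟨c, hc⟩ := Ideal.Quotient.mk_surjective (FormalFibre.evalLevel A C n x)
  have h1 := FormalFibre.factor_evalLevel A C hkn x
  rw [← hc, Ideal.Quotient.factor_mk] at h1
  rw [RingHom.comp_apply, mapLevel_eq A C n x c hc.symm, mapLevel_eq A C k x c h1.symm,
    Ideal.Quotient.factorPow, Ideal.Quotient.factor_mk]

/-- The comparison map. -/
noncomputable def toMapCompletion : C ⊗[A] Ah →+* AdicCompletion K C :=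
  AdicCompletion.liftRingHom K (mapLevel A C) (mapLevel_compat A C)

theorem evalₐ_toMapCompletion (n : ℕ) (x : C ⊗[A] Ah) :
    AdicCompletion.evalₐ K n (toMapCompletion A C x) = mapLevel A C n x := by
  exact AdicCompletion.evalₐ_liftRingHom K (mapLevel A C) (mapLevel_compat A C) n x

theorem toMapCompletion_bijective [IsNoetherianRing A] [Module.Finite A C] :
    Function.Bijective (toMapCompletion A C) := by
  let E := (TensorProduct.comm A C Ah).toEquiv.trans
    (AdicCompletion.ofTensorProductEquivOfFiniteNoetherian m C).toEquiv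
  have hE : ∀ x, E x = AdicCompletion.ofTensorProduct m C (TensorProduct.comm A C Ah x) :=
    fun x => rfl
  constructor
  · rw [injective_iff_map_eq_zero]
    intro x hx
    have h0 : E x = 0 := by
      refine AdicCompletion.ext fun n => ?_
      obtain ⟨c, hc⟩ := Submodule.Quotient.mk_surjective _ ((E x).val n)
      have h1 := mapLevel_eq A C n x c (FormalFibre.evalLevel_eq A C _ x c (hE x ▸ hc.symm))
      have h2 : mapLevel A C n x = 0 := by rw [← evalₐ_toMapCompletion, hx, map_zero]
      rw [h2, eq_comm, Ideal.Quotient.eq_zero_iff_mem, ← lvl_eq] at h1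
      rw [← hc, AdicCompletion.val_zero_apply, Submodule.Quotient.mk_eq_zero,
        FormalFibre.smul_top_eq_lvl]
      exact h1
    exact E.injective (h0.trans (by rw [hE]; simp))
  · intro y
    choose c hc using fun n => Ideal.Quotient.mk_surjective (AdicCompletion.evalₐ K n y)
    have hcc : ∀ {k n : ℕ}, k ≤ n → c n - c k ∈ K ^ k := fun {k n} hkn => by
      have h1 := FormalFibre.factor_evalₐ K hkn y
      rw [← hc n, ← hc k, Ideal.Quotient.factor_mk] at h1
      exact Ideal.Quotient.eq.mp h1
    let w : AdicCompletion m C := AdicCompletion.mk m C ⟨c, fun {k n} hkn => by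
      rw [SModEq.sub_mem, FormalFibre.smul_top_eq_lvl]
      have := hcc hkn
      change c k - c n ∈ FormalFibre.lvl A C k
      rw [lvl_eq, ← neg_sub]; exact neg_mem this⟩
    refine ⟨E.symm w, AdicCompletion.ext_evalₐ fun n => ?_⟩
    have h1 : FormalFibre.evalLevel A C n (E.symm w) = Ideal.Quotient.mk _ (c n) :=
      FormalFibre.evalLevel_eq A C n _ _ (by rw [← hE, E.apply_symm_apply]; rfl)
    rw [evalₐ_toMapCompletion, mapLevel_eq A C n _ _ h1, ← hc n]

/-- `C ⊗ Â ≃ AdicCompletion (mC) C`. -/
noncomputable def mapCompletionEquiv [IsNoetherianRing A] [Module.Finite A C] :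
    C ⊗[A] Ah ≃+* AdicCompletion K C :=
  RingEquiv.ofBijective _ (toMapCompletion_bijective A C)

end Groth.Agent.FiniteNormalCompletion
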